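import Groth.Agent.CILib.KoszulCalc
import Groth.Agent.SqZeroLiftLib.Basic
import Groth.Agent.IndLiftLib.Nilpotent
import Groth.Agent.CECharPLib.Koszul

/-!
# Koszul-regular sequences lift along square-zero extensions of the base of a flat algebra
-/

set_option autoImplicit false
set_option linter.style.haveILetI false
set_option backward.isDefEq.respectTransparency false

universe u

open CategoryTheory CochainComplex TensorProduct CohIII Groth.Agent.KoszulCech

noncomputable section

namespace Groth.Agent.SqZeroKoszulLib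

section FlatQuot

variable {R : Type u} [CommRing R]

/-- The kernel of a map onto a flat quotient tensors injectively. -/
theorem rTensor_subtype_injective {Y : Type u} [AddCommGroup Y] [Module R Y] (W : Submodule R Y)
    [Module.Flat R (Y ⧸ W)] (N : Type u) [AddCommGroup N] [Module R N] :
    Function.Injective (W.subtype.lTensor N) :=
  LinearMap.lTensor_injective_of_exact_of_flat W.mkQ W.mkQ_surjective W.subtype W.injective_subtype
    (LinearMap.exact_subtype_mkQ W) N

/-- A submodule of a flat module with flat quotient is flat. -/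
theorem flat_of_flat_quotient {Y : Type u} [AddCommGroup Y] [Module R Y] [Module.Flat R Y]
    (W : Submodule R Y) [Module.Flat R (Y ⧸ W)] : Module.Flat R W := by
  rw [Module.Flat.iff_lTensor_preserves_injective_linearMap]
  intro N P _ _ _ _ f hf
  have h1 : Function.Injective ((f.lTensor Y).comp (W.subtype.rTensor N)) :=
    (Module.Flat.lTensor_preserves_injective_linearMap f hf).comp
      ((LinearMap.lTensor_inj_iff_rTensor_inj _ _).1 (rTensor_subtype_injective W N))
  rw [show (f.lTensor Y).comp (W.subtype.rTensor N) = (W.subtype.rTensor P).comp (f.lTensor W) by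
    rw [LinearMap.lTensor_comp_rTensor, LinearMap.rTensor_comp_lTensor], LinearMap.coe_comp] at h1
  exact h1.of_comp

variable {Y₀ Y₁ Y₂ : Type u} [AddCommGroup Y₀] [Module R Y₀] [AddCommGroup Y₁] [Module R Y₁]
  [AddCommGroup Y₂] [Module R Y₂] {g : Y₀ →ₗ[R] Y₁} {h : Y₁ →ₗ[R] Y₂}

/-- Flat cokernels propagate down an exact complex of flat modules. -/
theorem flat_coker_of_exact (hex : Function.Exact g h) [Module.Flat R Y₂]
    [Module.Flat R (Y₂ ⧸ LinearMap.range h)] : Module.Flat R (Y₁ ⧸ LinearMap.range g) :=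
  haveI := flat_of_flat_quotient (LinearMap.range h)
  Module.Flat.of_linearEquiv ((Submodule.quotEquivOfEq _ _ hex.linearMap_ker_eq.symm).trans h.quotKerEquivRange)

/-- An exact sequence with flat cokernel stays exact after any tensor product. -/
theorem exact_lTensor_of_flat_coker (hex : Function.Exact g h)
    [Module.Flat R (Y₂ ⧸ LinearMap.range h)] (N : Type u) [AddCommGroup N] [Module R N] :
    Function.Exact (g.lTensor N) (h.lTensor N) := by
  have h1 : Function.Exact g h.rangeRestrict := fun y => by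
    refine ⟨fun hy => (hex y).1 (congrArg Subtype.val hy), fun hy => Subtype.ext ((hex y).2 hy)⟩
  have h2 := lTensor_exact N h1 h.surjective_rangeRestrict
  have hc : h.lTensor N = ((LinearMap.range h).subtype.lTensor N).comp (h.rangeRestrict.lTensor N) := by
    rw [← LinearMap.lTensor_comp]; rfl
  intro y
  rw [← h2 y, hc, LinearMap.comp_apply]
  exact map_eq_zero_iff _ (rTensor_subtype_injective _ N)

end FlatQuot

section Killed

variable {A R : Type u} [CommRing A] [CommRing R] [Algebra A R] (hs : Function.Surjective (algebraMap A R))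
  {Y₀ Y₁ Y₂ : Type u} [AddCommGroup Y₀] [Module A Y₀] [Module R Y₀] [IsScalarTower A R Y₀]
  [AddCommGroup Y₁] [Module A Y₁] [Module R Y₁] [IsScalarTower A R Y₁]
  [AddCommGroup Y₂] [Module A Y₂] [Module R Y₂] [IsScalarTower A R Y₂]
  (N : Type u) [AddCommGroup N] [Module A N] [Module R N] [IsScalarTower A R N]

include hs in
theorem exact_lTensor_killed {g : Y₀ →ₗ[R] Y₁} {h : Y₁ →ₗ[R] Y₂} (hex : Function.Exact g h)
    [Module.Flat R (Y₂ ⧸ LinearMap.range h)] :
    Function.Exact ((g.restrictScalars A).lTensor N) ((h.restrictScalars A).lTensor N) := by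
  have compat : ∀ (Y : Type u) [AddCommGroup Y] [Module A Y] [Module R Y] [IsScalarTower A R Y],
      ∃ e : N ⊗[A] Y →+ N ⊗[R] Y, Function.Bijective e ∧ ∀ n y, e (n ⊗ₜ y) = n ⊗ₜ y := by
    intro Y _ _ _ _
    haveI : TensorProduct.CompatibleSMul A R N Y := ⟨fun r m n => by
      obtain ⟨a, rfl⟩ := hs r
      rw [algebraMap_smul, algebraMap_smul]
      exact TensorProduct.smul_tmul a m n⟩
    refine ⟨(TensorProduct.mapOfCompatibleSMul R A A N Y).toAddMonoidHom, ⟨?_, ?_⟩, fun n y => rfl⟩
    · exact Function.LeftInverse.injective (g := TensorProduct.mapOfCompatibleSMul A R A N Y) fun t => by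
        induction t using TensorProduct.induction_on with
        | zero => simp
        | tmul n y => rfl
        | add a b ha hb => simp only [map_add]; exact congrArg₂ (· + ·) ha hb
    · exact TensorProduct.mapOfCompatibleSMul_surjective R A A N Y
  obtain ⟨e₀, b₀, t₀⟩ := compat Y₀
  obtain ⟨e₁, b₁, t₁⟩ := compat Y₁
  obtain ⟨e₂, b₂, t₂⟩ := compat Y₂
  have n₁ : ∀ t, e₁ ((g.restrictScalars A).lTensor N t) = g.lTensor N (e₀ t) := fun t => by
    induction t using TensorProduct.induction_on with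
    | zero => simp
    | tmul n y => rw [LinearMap.lTensor_tmul, t₁, t₀, LinearMap.lTensor_tmul]; rfl
    | add a b ha hb => simp [ha, hb]
  have n₂ : ∀ t, e₂ ((h.restrictScalars A).lTensor N t) = h.lTensor N (e₁ t) := fun t => by
    induction t using TensorProduct.induction_on with
    | zero => simp
    | tmul n y => rw [LinearMap.lTensor_tmul, t₂, t₁, LinearMap.lTensor_tmul]; rfl
    | add a b ha hb => simp [ha, hb]
  intro y
  rw [← map_eq_zero_iff e₂ b₂.injective, n₂, exact_lTensor_of_flat_coker hex N (e₁ y)]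
  constructor
  · rintro ⟨s, hs'⟩
    obtain ⟨s, rfl⟩ := b₀.surjective s
    exact ⟨s, b₁.injective ((n₁ s).trans hs')⟩
  · rintro ⟨s, rfl⟩
    exact ⟨e₀ s, (n₁ s).symm⟩

end Killed

section Step

variable {A : Type u} [CommRing A] (J : Ideal A)

/-- The multiplication map. -/
def mu (X : Type u) [AddCommGroup X] [Module A X] : J ⊗[A] X →ₗ[A] X :=
  (TensorProduct.lid A X).toLinearMap ∘ₗ J.subtype.rTensor X

variable {J}

theorem mu_tmul {X : Type u} [AddCommGroup X] [Module A X] (j : J) (x : X) :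
    mu J X (j ⊗ₜ x) = (j : A) • x := by simp [mu]

theorem mu_injective {X : Type u} [AddCommGroup X] [Module A X] [Module.Flat A X] :
    Function.Injective (mu J X) :=
  (TensorProduct.lid A X).injective.comp
    (Module.Flat.rTensor_preserves_injective_linearMap _ J.injective_subtype)

theorem mu_natural {X X' : Type u} [AddCommGroup X] [Module A X] [AddCommGroup X'] [Module A X']
    (d : X →ₗ[A] X') (t : J ⊗[A] X) : mu J X' (d.lTensor J t) = d (mu J X t) := by
  induction t using TensorProduct.induction_on with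
  | zero => simp
  | tmul j x => rw [LinearMap.lTensor_tmul, mu_tmul, mu_tmul, map_smul]
  | add a b ha hb => simp [ha, hb]

theorem exists_mu_eq {X : Type u} [AddCommGroup X] [Module A X] {x : X}
    (hx : x ∈ J • (⊤ : Submodule A X)) : ∃ t, mu J X t = x := by
  refine Submodule.smul_induction_on hx (fun a ha m _ => ⟨⟨a, ha⟩ ⊗ₜ m, mu_tmul _ _⟩) ?_
  rintro _ _ ⟨a, rfl⟩ ⟨b, rfl⟩
  exact ⟨a + b, map_add _ _ _⟩

theorem lTensor_proj_eq_zero (hJ : J * J = ⊥) {X Y : Type u} [AddCommGroup X] [Module A X]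
    [AddCommGroup Y] [Module A Y] {π : X →ₗ[A] Y} (hπ : Function.Surjective π)
    (hk : ∀ x, π x = 0 ↔ x ∈ J • (⊤ : Submodule A X)) {t : J ⊗[A] X} (ht : π.lTensor J t = 0) : t = 0 := by
  obtain ⟨w, rfl⟩ := (lTensor_exact J (LinearMap.exact_subtype_ker_map π) hπ t).1 ht
  clear ht
  induction w using TensorProduct.induction_on with
  | zero => simp
  | tmul j x =>
    rw [LinearMap.lTensor_tmul]
    refine Submodule.smul_induction_on (p := fun m => j ⊗ₜ[A] m = 0) ((hk _).1 x.2) (fun a ha m _ => ?_)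
      (fun p q hp hq => by rw [TensorProduct.tmul_add, hp, hq, add_zero])
    have : a • j = 0 := Subtype.ext (by
      have := Ideal.mul_mem_mul ha j.2
      rw [hJ, Ideal.mem_bot] at this
      exact this)
    rw [← TensorProduct.smul_tmul, this, TensorProduct.zero_tmul]
  | add a b ha hb => rw [map_add, ha, hb, add_zero]

variable {R : Type u} [CommRing R] [Algebra A R] {X₀ X₁ X₂ Y₀ Y₁ Y₂ : Type u}
  [AddCommGroup X₀] [Module A X₀] [AddCommGroup X₁] [Module A X₁] [AddCommGroup X₂] [Module A X₂]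
  [Module.Flat A X₂]
  [AddCommGroup Y₀] [Module A Y₀] [Module R Y₀] [IsScalarTower A R Y₀]
  [AddCommGroup Y₁] [Module A Y₁] [Module R Y₁] [IsScalarTower A R Y₁]
  [AddCommGroup Y₂] [Module A Y₂] [Module R Y₂] [IsScalarTower A R Y₂]

/-- Exactness lifts along a square-zero ideal. -/
theorem exact_lift (hJ : J * J = ⊥) (hs : Function.Surjective (algebraMap A R)) [Module R J] [IsScalarTower A R J]
    (d : X₀ →ₗ[A] X₁) (d' : X₁ →ₗ[A] X₂) (hdd : ∀ y, d' (d y) = 0)
    {g : Y₀ →ₗ[R] Y₁} {h : Y₁ →ₗ[R] Y₂} (hex : Function.Exact g h) [Module.Flat R (Y₂ ⧸ LinearMap.range h)]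
    {π₀ : X₀ →ₗ[A] Y₀} {π₁ : X₁ →ₗ[A] Y₁} {π₂ : X₂ →ₗ[A] Y₂} (hπ₀ : Function.Surjective π₀)
    (hπ₁ : Function.Surjective π₁) (hk : ∀ x, π₁ x = 0 ↔ x ∈ J • (⊤ : Submodule A X₁))
    (c₁ : ∀ x, π₁ (d x) = g (π₀ x)) (c₂ : ∀ x, π₂ (d' x) = h (π₁ x)) (x : X₁) (hx : d' x = 0) :
    ∃ y, d y = x := by
  have hhx : h (π₁ x) = 0 := by rw [← c₂, hx, map_zero]
  obtain ⟨yb, hyb⟩ := (hex _).1 hhx
  obtain ⟨y₀, rfl⟩ := hπ₀ yb
  obtain ⟨t, ht⟩ := exists_mu_eq ((hk (x - d y₀)).1 (by rw [map_sub, c₁, hyb, sub_self]))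
  have h1 : d'.lTensor J t = 0 := mu_injective (by
    rw [mu_natural, ht, map_zero, map_sub, hx, hdd, sub_zero])
  have h2 : (h.restrictScalars A).lTensor J (π₁.lTensor J t) = 0 := by
    rw [← LinearMap.comp_apply, ← LinearMap.lTensor_comp,
      show (h.restrictScalars A) ∘ₗ π₁ = π₂ ∘ₗ d' from LinearMap.ext fun z => (c₂ z).symm,
      LinearMap.lTensor_comp, LinearMap.comp_apply, h1, map_zero]
  obtain ⟨sb, hsb⟩ := (exact_lTensor_killed hs J hex _).1 h2
  obtain ⟨s, rfl⟩ := LinearMap.lTensor_surjective J hπ₀ sb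
  have h3 : t - d.lTensor J s = 0 := lTensor_proj_eq_zero hJ hπ₁ hk (by
    rw [map_sub, ← hsb, ← LinearMap.comp_apply, ← LinearMap.comp_apply, ← LinearMap.lTensor_comp,
      ← LinearMap.lTensor_comp, sub_eq_zero]
    exact congrArg (fun F => LinearMap.lTensor J F s) (LinearMap.ext fun z => (c₁ z).symm))
  refine ⟨y₀ + mu J X₀ s, ?_⟩
  rw [map_add, ← mu_natural, ← sub_eq_zero.1 h3, ht]
  abel

end Step

section Proj

variable {B C : Type u} [CommRing B] [CommRing C] (φ : B →+* C)

theorem kaug_injective (M : ModuleCat.{u} B) : ∀ l : List B, Function.Injective (kaug M l)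
  | [] => (HomologicalComplex.singleObjXSelf (ComplexShape.up ℤ) 0 M).toLinearEquiv.injective
  | f :: l => fun x y h => by
    haveI := subsingleton_X M l 1 (Or.inl one_pos)
    exact cone_ext (f • 𝟙 (koszulCx M l)) (rfl : (0 : ℤ) + 1 = 1) (Subsingleton.elim (α := (koszulCx M l).X 1) _ _)
      (kaug_injective M l h)

local notation "Kc" l => koszulCx (ModuleCat.of B B) l
local notation "Kd" l => koszulCx (ModuleCat.of C C) (List.map φ l)

/-- A Koszul complex maps onto the Koszul complex of a quotient ring. -/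
structure Proj (l : List B) where
  π : ∀ k, (Kc l).X k →+ (Kd l).X k
  surj : ∀ k, Function.Surjective (π k)
  smul : ∀ k (b : B) x, π k (b • x) = φ b • π k x
  comm : ∀ i j, i + 1 = j → ∀ x, π j ((Kc l).d i j x) = (Kd l).d i j (π i x)
  ker : ∀ k x, π k x = 0 → x ∈ RingHom.ker φ • (⊤ : Submodule B ((Kc l).X k))
  aug : ∀ x, kaug _ (l.map φ) (π 0 x) = φ (kaug _ l x)

theorem nonempty_proj (hφ : Function.Surjective φ) : ∀ l : List B, Nonempty (Proj φ l) := by
  intro l
  induction l with
  | nil =>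
    haveI : ∀ k : ℤ, k ≠ 0 → Subsingleton ((Kc []).X k) := fun k hk =>
      ModuleCat.subsingleton_of_isZero (HomologicalComplex.isZero_single_obj_X _ _ _ _ hk)
    haveI : ∀ k : ℤ, k ≠ 0 → Subsingleton ((Kd []).X k) := fun k hk =>
      ModuleCat.subsingleton_of_isZero (HomologicalComplex.isZero_single_obj_X _ _ _ _ hk)
    let e : (Kc []).X 0 ≃ₗ[B] B :=
      (HomologicalComplex.singleObjXSelf (ComplexShape.up ℤ) 0 (ModuleCat.of B B)).toLinearEquiv
    let e' : (Kd []).X 0 ≃ₗ[C] C :=
      (HomologicalComplex.singleObjXSelf (ComplexShape.up ℤ) 0 (ModuleCat.of C C)).toLinearEquiv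
    let π : ∀ k : ℤ, (Kc []).X k →+ (Kd []).X k := fun k =>
      if h : k = 0 then by subst h; exact e'.symm.toAddMonoidHom.comp (φ.toAddMonoidHom.comp e.toAddMonoidHom) else 0
    have h0 : ∀ x, π 0 x = e'.symm (φ (e x)) := fun x => by
      show (dite _ _ _ : _ →+ _) x = _
      rw [dif_pos rfl]; rfl
    refine ⟨⟨π, fun k y => ?_, fun k b x => ?_, fun i j hij x => ?_, fun k x hx => ?_, fun x => ?_⟩⟩
    · rcases eq_or_ne k 0 with rfl | hk
      · obtain ⟨b, hb⟩ := hφ (e' y)
        exact ⟨e.symm b, by rw [h0, e.apply_symm_apply, hb, e'.symm_apply_apply]⟩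
      · haveI := ‹∀ k : ℤ, k ≠ 0 → Subsingleton ((Kd []).X k)› k hk
        exact ⟨0, Subsingleton.elim _ _⟩
    · rcases eq_or_ne k 0 with rfl | hk
      · rw [h0, h0, map_smul e, smul_eq_mul, map_mul, ← map_smul e'.symm]; rfl
      · haveI := ‹∀ k : ℤ, k ≠ 0 → Subsingleton ((Kd []).X k)› k hk
        exact Subsingleton.elim _ _
    · rcases eq_or_ne j 0 with rfl | hj
      · haveI := ‹∀ k : ℤ, k ≠ 0 → Subsingleton ((Kc []).X k)› i (by omega)
        rw [Subsingleton.elim x 0]; simp
      · haveI := ‹∀ k : ℤ, k ≠ 0 → Subsingleton ((Kd []).X k)› j hj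
        exact Subsingleton.elim _ _
    · rcases eq_or_ne k 0 with rfl | hk
      · rw [h0, e'.symm.map_eq_zero_iff] at hx
        have : x = (e x) • e.symm 1 := e.injective (by rw [map_smul, e.apply_symm_apply, smul_eq_mul, mul_one])
        rw [this]
        exact Submodule.smul_mem_smul hx trivial
      · haveI := ‹∀ k : ℤ, k ≠ 0 → Subsingleton ((Kc []).X k)› k hk
        rw [Subsingleton.elim x 0]; exact zero_mem _
    · show e' (π 0 x) = φ (e x)
      rw [h0, e'.apply_symm_apply]
  | cons f l ih =>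
    obtain ⟨p⟩ := ih
    let ψ : (Kc l) ⟶ (Kc l) := f • 𝟙 _
    let ψ' : (Kd l) ⟶ (Kd l) := φ f • 𝟙 _
    let π : ∀ k : ℤ, (Kc (f :: l)).X k →+ (Kd (f :: l)).X k := fun k =>
      AddMonoidHom.mk' (fun x : (mappingCone ψ).X k => cmk ψ' k (k + 1) rfl (p.π (k + 1) (cfst ψ k (k + 1) rfl x)) (p.π k (csnd ψ k x)))
        fun x y => by
          refine cone_ext ψ' (rfl : k + 1 = k + 1) ?_ ?_
          · exact ((cfst_cmk ψ' rfl _ _).trans ((congrArg (p.π (k + 1)) (map_add (cfst ψ k (k + 1) rfl) x y)).trans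
              (map_add (p.π (k + 1)) _ _))).trans ((map_add (cfst ψ' k (k + 1) rfl) _ _).trans
              (congrArg₂ (· + ·) (cfst_cmk ψ' rfl _ _) (cfst_cmk ψ' rfl _ _))).symm
          · exact ((csnd_cmk ψ' rfl _ _).trans ((congrArg (p.π k) (map_add (csnd ψ k) x y)).trans
              (map_add (p.π k) _ _))).trans ((map_add (csnd ψ' k) _ _).trans
              (congrArg₂ (· + ·) (csnd_cmk ψ' rfl _ _) (csnd_cmk ψ' rfl _ _))).symm
    have hf : ∀ k j (h : k + 1 = j) x, cfst ψ' k j h (π k x) = p.π j (cfst ψ k j h x) := fun k j h x => by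
      subst h; exact cfst_cmk ψ' rfl _ _
    have hg : ∀ k x, csnd ψ' k (π k x) = p.π k (csnd ψ k x) := fun k x => csnd_cmk ψ' rfl _ _
    refine ⟨⟨π, fun k y => ?_, fun k b x => ?_, fun i j hij x => ?_, fun k x hx => ?_, fun x => ?_⟩⟩
    · obtain ⟨a, ha⟩ := p.surj _ (cfst ψ' k (k + 1) rfl y)
      obtain ⟨b, hb⟩ := p.surj _ (csnd ψ' k y)
      refine ⟨cmk ψ k (k + 1) rfl a b, cone_ext ψ' (rfl : k + 1 = k + 1) ?_ ?_⟩
      · rw [hf, cfst_cmk, ha]
      · rw [hg, csnd_cmk, hb]
    · refine cone_ext ψ' (rfl : k + 1 = k + 1) ?_ ?_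
      · refine (hf _ _ _ _).trans ?_
        erw [map_smul (cfst ψ k (k + 1) rfl), map_smul (cfst ψ' k (k + 1) rfl), p.smul, hf]
      · refine (hg _ _).trans ?_
        erw [map_smul (csnd ψ k), map_smul (csnd ψ' k), p.smul, hg]
    · refine cone_ext ψ' (rfl : j + 1 = j + 1) ?_ ?_
      · refine (hf _ _ _ _).trans ?_
        erw [cfst_d ψ hij rfl, cfst_d ψ' hij rfl, map_neg, p.comm _ _ rfl, hf]
      · refine (hg _ _).trans ?_
        erw [csnd_d ψ hij, csnd_d ψ' hij, map_add, p.comm _ _ hij, hf, hg, smulId_f_apply, smulId_f_apply, p.smul]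
    · have h1 : p.π (k + 1) (cfst ψ k (k + 1) rfl x) = 0 := by
        rw [← hf, hx]; exact map_zero _
      have h2 : p.π k (csnd ψ k x) = 0 := by rw [← hg, hx]; exact map_zero _
      let inl : (Kc l).X (k + 1) →ₗ[B] (mappingCone ψ).X k := ((mappingCone.inl ψ).v (k + 1) k (by omega)).hom
      let inr : (Kc l).X k →ₗ[B] (mappingCone ψ).X k := ((mappingCone.inr ψ).f k).hom
      have hm : ∀ {U : Type u} [AddCommGroup U] [Module B U] (F : U →ₗ[B] (mappingCone ψ).X k) (u : U),
          u ∈ RingHom.ker φ • (⊤ : Submodule B U) → F u ∈ RingHom.ker φ • (⊤ : Submodule B ((mappingCone ψ).X k)) :=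
        fun F u hu => Submodule.smul_induction_on hu
          (fun a ha m _ => by rw [map_smul]; exact Submodule.smul_mem_smul ha trivial)
          (fun p q hp hq => by rw [map_add]; exact add_mem hp hq)
      have e : x = inl (cfst ψ k (k + 1) rfl x) + inr (csnd ψ k x) :=
        cone_ext ψ (rfl : k + 1 = k + 1) (cfst_cmk ψ rfl _ _).symm (csnd_cmk ψ rfl _ _).symm
      rw [e]
      exact add_mem (hm inl _ (p.ker _ _ h1)) (hm inr _ (p.ker _ _ h2))
    · show kaug _ (l.map φ) (csnd ψ' 0 (π 0 x)) = φ (kaug _ l (csnd ψ 0 x))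
      rw [hg, p.aug]

end Proj

theorem mem_smul_top_iff {A B : Type u} [CommRing A] [CommRing B] [Algebra A B] (J : Ideal A) {X : Type u}
    [AddCommGroup X] [Module B X] [Module A X] [IsScalarTower A B X] (x : X) :
    x ∈ J.map (algebraMap A B) • (⊤ : Submodule B X) ↔ x ∈ J • (⊤ : Submodule A X) := by
  constructor
  · intro h
    refine Submodule.smul_induction_on h (fun a ha m _ => ?_) (fun p q hp hq => add_mem hp hq)
    induction ha using Submodule.span_induction generalizing m with
    | mem y hy =>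
      obtain ⟨a, ha, rfl⟩ := hy
      rw [algebraMap_smul]
      exact Submodule.smul_mem_smul ha trivial
    | zero => rw [zero_smul]; exact zero_mem _
    | add y z _ _ hy hz => rw [add_smul]; exact add_mem (hy m trivial) (hz m trivial)
    | smul c y _ hy => rw [smul_eq_mul, mul_comm, mul_smul]; exact hy (c • m) trivial
  · intro h
    refine Submodule.smul_induction_on h (fun a ha m _ => ?_) (fun p q hp hq => add_mem hp hq)
    rw [← algebraMap_smul B a m]
    exact Submodule.smul_mem_smul (Ideal.mem_map_of_mem _ ha) trivial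

/-- Lifting of Koszul regularity and of flatness of the quotient. -/
theorem main {A B : Type u} [CommRing A] [CommRing B] [Algebra A B]
    [Module.Flat A B] (J : Ideal A) (hJ : J * J = ⊥) (rs : List B)
    (hreg : LCI.IsKoszulRegularSeq (B ⧸ Ideal.map (algebraMap A B) J)
      (rs.map (Ideal.Quotient.mk (Ideal.map (algebraMap A B) J))))
    (hflat : Module.Flat (A ⧸ J) ((B ⧸ Ideal.map (algebraMap A B) J) ⧸
      Ideal.ofList (rs.map (Ideal.Quotient.mk (Ideal.map (algebraMap A B) J))))) :
    LCI.IsKoszulRegularSeq B rs ∧ Module.Flat A (B ⧸ Ideal.ofList rs) := by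
  let φ := Ideal.Quotient.mk (Ideal.map (algebraMap A B) J)
  obtain ⟨p⟩ := nonempty_proj φ Ideal.Quotient.mk_surjective rs
  let C := B ⧸ Ideal.map (algebraMap A B) J
  let Kb := koszulCx (ModuleCat.of B B) rs
  let Kr := koszulCx (ModuleCat.of C C) (rs.map φ)
  haveI := IndLiftLib.flat_quotient_map (Λ := B) J
  letI : ∀ k, Module A (Kb.X k) := fun k => Module.compHom _ (algebraMap A B)
  haveI : ∀ k, IsScalarTower A B (Kb.X k) := fun k => IsScalarTower.of_algebraMap_smul fun _ _ => rfl
  letI : ∀ k, Module A (Kr.X k) := fun k => Module.compHom _ (algebraMap A C)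
  haveI : ∀ k, IsScalarTower A C (Kr.X k) := fun k => IsScalarTower.of_algebraMap_smul fun _ _ => rfl
  letI : ∀ k, Module (A ⧸ J) (Kr.X k) := fun k => Module.compHom _ (algebraMap (A ⧸ J) C)
  haveI : ∀ k, IsScalarTower (A ⧸ J) C (Kr.X k) := fun k => IsScalarTower.of_algebraMap_smul fun _ _ => rfl
  haveI : ∀ k, IsScalarTower A (A ⧸ J) (Kr.X k) := fun k => IsScalarTower.of_algebraMap_smul fun _ _ => rfl
  have hfb : ∀ k, Module.Flat A (Kb.X k) := fun k => by
    have hfree := CECharPLib.koszul_free rs k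
    rw [CILib.koszul_eq] at hfree
    haveI : Module.Free B (Kb.X k) := hfree
    exact Module.Flat.trans A B _
  have hfr : ∀ k, Module.Flat (A ⧸ J) (Kr.X k) := fun k => by
    have hfree := CECharPLib.koszul_free (rs.map φ) k
    rw [CILib.koszul_eq] at hfree
    haveI : Module.Free C (Kr.X k) := hfree
    exact Module.Flat.trans (A ⧸ J) C _
  have hJt : Module.IsTorsionBySet A J (J : Set A) := fun x a => Subtype.ext (by
    have := Ideal.mul_mem_mul a.2 x.2
    rw [hJ, Ideal.mem_bot] at this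
    exact this)
  letI : Module (A ⧸ J) J := hJt.module
  haveI : IsScalarTower A (A ⧸ J) J := hJt.isScalarTower
  let π : ∀ k, Kb.X k →ₗ[A] Kr.X k := fun k =>
    { toFun := p.π k
      map_add' := map_add _
      map_smul' := fun a x => p.smul k (algebraMap A B a) x }
  let d : ∀ i j, Kb.X i →ₗ[A] Kb.X j := fun i j => (Kb.d i j).hom.restrictScalars A
  let dr : ∀ i j, Kr.X i →ₗ[A ⧸ J] Kr.X j := fun i j => (Kr.d i j).hom.restrictScalars (A ⧸ J)
  have hker : ∀ k x, π k x = 0 ↔ x ∈ J • (⊤ : Submodule A (Kb.X k)) := fun k x => by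
    constructor
    · intro h
      rw [← mem_smul_top_iff (B := B)]
      have := p.ker k x h
      rwa [Ideal.mk_ker] at this
    · intro h
      refine Submodule.smul_induction_on h (fun a ha m _ => ?_) (fun q r hq hr => by rw [map_add, hq, hr, add_zero])
      show p.π k (algebraMap A B a • m) = 0
      rw [p.smul, Ideal.Quotient.eq_zero_iff_mem.2 (Ideal.mem_map_of_mem _ ha), zero_smul]
  have hexr : ∀ i j k, i + 1 = j → j + 1 = k → j ≠ 0 → Function.Exact (dr i j) (dr j k) := by
    intro i j k hij hjk hj y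
    have hz := CILib.koszul_eq (rs.map φ) ▸ (CILib.isKoszulRegularSeq_iff_ex _).1 hreg j hj
    refine ⟨fun hy => ?_, ?_⟩
    · subst hjk
      obtain ⟨w, hw⟩ := hz y hy
      obtain rfl : i = j - 1 := by omega
      exact ⟨w, hw⟩
    · rintro ⟨w, rfl⟩
      exact ConcreteCategory.congr_hom (Kr.d_comp_d i j k) w
  have hfl : ∀ (n : ℕ) i j, i + 1 = j → j = -(n : ℤ) → Module.Flat (A ⧸ J) (Kr.X j ⧸ LinearMap.range (dr i j)) := by
    intro n
    induction n with
    | zero =>
      intro i j hij hj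
      obtain rfl : j = 0 := by simpa using hj
      obtain rfl : i = -1 := by omega
      let q : Kr.X 0 →ₗ[A ⧸ J] C ⧸ Ideal.ofList (rs.map φ) :=
        ((Submodule.mkQ (Ideal.ofList (rs.map φ))).comp (kaug _ (rs.map φ))).restrictScalars (A ⧸ J)
      have hq : Function.Surjective q := (Submodule.mkQ_surjective _).comp (kaug_surjective _ _)
      have hqk : LinearMap.range (dr (-1) 0) = LinearMap.ker q := by
        ext x
        have := kaug_mem_iff (ModuleCat.of C C) (rs.map φ) x
        rw [smul_eq_mul, Ideal.mul_top] at this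
        rw [LinearMap.mem_ker, LinearMap.mem_range]
        exact this.symm.trans (Submodule.Quotient.mk_eq_zero _).symm
      haveI := hflat
      exact Module.Flat.of_linearEquiv ((Submodule.quotEquivOfEq _ _ hqk).trans (q.quotKerEquivOfSurjective hq))
    | succ n ih =>
      intro i j hij hj
      haveI := ih j (j + 1) rfl (by push_cast at hj; omega)
      haveI := hfr (j + 1)
      exact flat_coker_of_exact (hexr i j (j + 1) hij rfl (by omega))
  constructor
  · rw [CILib.isKoszulRegularSeq_iff_ex, CILib.koszul_eq]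
    intro j hj x hx
    rcases lt_or_gt_of_ne hj with h | h
    · haveI := hfb (j + 1)
      obtain ⟨n, hn⟩ : ∃ n : ℕ, j + 1 = -(n : ℤ) := ⟨(-(j + 1)).toNat, by omega⟩
      haveI := hfl n j (j + 1) rfl hn
      exact exact_lift hJ Ideal.Quotient.mk_surjective (d (j - 1) j) (d j (j + 1))
        (fun y => ConcreteCategory.congr_hom (Kb.d_comp_d (j - 1) j (j + 1)) y)
        (hexr (j - 1) j (j + 1) (by omega) rfl hj) (π₀ := π (j - 1)) (π₁ := π j) (π₂ := π (j + 1)) (p.surj _)
        (p.surj _) (hker j) (fun z => p.comm _ _ (by omega) z) (fun z => p.comm _ _ rfl z) x hx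
    · haveI := subsingleton_X (ModuleCat.of B B) rs j (Or.inl h)
      exact ⟨0, Subsingleton.elim _ _⟩
  · haveI := hflat
    refine SqZeroLiftLib.flat_lift hJ (Ideal.ofList rs) (Ideal.map_ofList _ _) fun z hz => ?_
    obtain ⟨x, hx⟩ := kaug_surjective (ModuleCat.of B B) rs (SqZeroLiftLib.nu z)
    obtain ⟨y, hy⟩ := (kaug_mem_iff (ModuleCat.of B B) rs x).1 (by
      rw [hx, smul_eq_mul, Ideal.mul_top]; exact hz)
    have h1 : dr (-1) 0 (π (-1) y) = 0 := by
      refine kaug_injective _ _ ?_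
      show kaug _ _ (Kr.d (-1) 0 (p.π (-1) y)) = kaug _ _ 0
      rw [← p.comm (-1) 0 rfl, hy, p.aug, hx, map_zero]
      exact Ideal.Quotient.eq_zero_iff_mem.2 (SqZeroLiftLib.nu_mem_map z)
    obtain ⟨wb, hw⟩ := (hexr (-2) (-1) 0 rfl rfl (by omega) _).1 h1
    obtain ⟨w, rfl⟩ := p.surj _ wb
    obtain ⟨t, ht⟩ := exists_mu_eq ((hker (-1) (y - d (-2) (-1) w)).1 (by
      rw [map_sub, sub_eq_zero]
      exact hw.symm.trans (p.comm (-2) (-1) rfl w).symm))
    let kd : Kb.X (-1) →ₗ[A] B := ((kaug (ModuleCat.of B B) rs).comp (Kb.d (-1) 0).hom).restrictScalars A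
    have hk0 : kd (d (-2) (-1) w) = 0 := by
      show kaug _ _ (Kb.d (-1) 0 (Kb.d (-2) (-1) w)) = 0
      have : Kb.d (-1) 0 (Kb.d (-2) (-1) w) = 0 := ConcreteCategory.congr_hom (Kb.d_comp_d (-2) (-1) 0) w
      rw [this, map_zero]
    have hmu : ∀ s : J ⊗[A] B, SqZeroLiftLib.nu (TensorProduct.comm A J B s) = mu J B s := fun s => by
      induction s using TensorProduct.induction_on with
      | zero => simp
      | tmul j b => rw [TensorProduct.comm_tmul, SqZeroLiftLib.nu_tmul, mu_tmul, Algebra.smul_def, mul_comm]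
      | add a b ha hb => simp [ha, hb]
    have hz' : z = TensorProduct.comm A J B (kd.lTensor J t) := by
      refine SqZeroLiftLib.nu_injective ?_
      rw [hmu, mu_natural, ht, map_sub, hk0, sub_zero]
      exact hx.symm.trans (congrArg _ hy.symm)
    rw [hz']
    clear hz' ht
    induction t using TensorProduct.induction_on with
    | zero => simp
    | tmul j v =>
      rw [LinearMap.lTensor_tmul, TensorProduct.comm_tmul, SqZeroLiftLib.proj, LinearMap.rTensor_tmul]
      have : kd v ∈ Ideal.ofList rs := by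
        have := (kaug_mem_iff (ModuleCat.of B B) rs _).2 ⟨v, rfl⟩
        rw [smul_eq_mul, Ideal.mul_top] at this
        exact this
      rw [AlgHom.toLinearMap_apply, SqZeroLiftLib.toQ_apply, Ideal.Quotient.eq_zero_iff_mem.2 (by
        rw [← Ideal.map_ofList]; exact Ideal.mem_map_of_mem _ this), TensorProduct.zero_tmul]
    | add a b ha hb => simp only [map_add, ha, hb, add_zero]

end Groth.Agent.SqZeroKoszulLib
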